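import Groth.Agent.PBSurf14.Basic
import Groth.Agent.TFPush7.Ribbon
import Groth.Agent.CurveRR24.GGTensor
import Groth.Agent.Mod22.GGDual
import Groth.Agent.Desc19b.GGFpqc
import Groth.Agent.NumTriv23.Basic
import Groth.Agent.Clifford24.SmoothFamilyO

/-!
# Line bundles pulled back from the base of a ruled surface, and the Hirzebruch surfaces
-/

set_option autoImplicit false
set_option linter.style.haveILetI false
set_option backward.isDefEq.respectTransparency.types false
set_option maxHeartbeats 1000000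

universe u

open CategoryTheory CategoryTheory.Limits AlgebraicGeometry Opposite TopologicalSpace
open Groth.Agent Groth.Agent.Coherent Groth.Agent.PicLib Groth.Agent.AmpleLib Groth.Agent.EulerLib
open Groth.Agent.CurveRR24 Groth.Agent.DimLib Groth.Agent.Surf15

namespace Groth.Agent.PBSurf14

variable (k : Type u) [Field k] [IsAlgClosed k] {X : Scheme.{u}} [X.Over (Spec (CommRingCat.of k))]
  [IsIntegral X] [IsProper (X ↘ Spec (CommRingCat.of k))]

omit [IsAlgClosed k] in
include k in
/-- A pulled back invertible module has degree zero on what lies over a point. -/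
theorem B_pull_eq_zero (hX : topologicalKrullDim X ≤ ((2 : ℕ) : WithBot ℕ∞)) {B : Scheme.{u}} (f : X ⟶ B)
    {M : B.Modules} (hM : PicF.IsInvertible M) {y : B} {C : X.IdealSheafData}
    (hC : BlowUp.IsEffCartierIdeal C) (hCp : (C.support : Set X) ⊆ f ⁻¹' {y}) :
    Surf15.B k (clI' C hC) (InvCl.mk ((Scheme.Modules.pullback f).obj M) (PicLoc.isInvertible_pullback f hM)) = 0 := by
  have hI := PicLoc.isInvertible_pullback f hM
  obtain ⟨e⟩ := exists_restrict_iso C hI
  let j := C.subschemeι
  let N := (Scheme.Modules.pullback (j ≫ f)).obj M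
  have e₂ : (Scheme.Modules.pullback j).obj ((Scheme.Modules.pullback f).obj M) ≅ N :=
    (Scheme.Modules.pullbackComp j f).app M
  obtain ⟨V, hpV, g, hg⟩ := exists_isGen hM y
  have htop : (j ≫ f) ⁻¹ᵁ V = ⊤ := eq_top_iff.2 fun z _ => by
    have h : f (j z) = y := hCp (C.range_subschemeι.le ⟨z, rfl⟩)
    show f (j z) ∈ V
    rw [h]
    exact hpV
  have hgen : IsGen N ((j ≫ f) ⁻¹ᵁ V) (pullSec (j ≫ f) g) := isGen_pullSec (j ≫ f) hg hM
  have hglo : glocus N (resM N htop.ge (pullSec (j ≫ f) g)) = ⊤ := by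
    rw [eq_top_iff, le_glocus_iff, resM_self]
    exact hgen.restrict htop.ge
  obtain ⟨e₃⟩ := nonempty_iso_of_glocus_eq_top hglo
  have h := deg_quotMod k hC (InvCl.mk _ hI)
  rw [deg_mk, euler_congr k X (e ≪≫ (Coh.push j).mapIso (e₂ ≪≫ e₃) :
      CohB1.tensorMod (ClSub.quotMod C) _ ≅ ClSub.quotMod C), sub_self] at h
  omega

omit [IsAlgClosed k] in
include k in
/-- A globally generated invertible module is nonnegative on curves. -/
theorem deg_nonneg_of_gg {L : X.Modules} (hL : PicF.IsInvertible L) (hgg : Curv2.IsGloballyGenerated L)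
    {D : X.IdealSheafData} (hD : BlowUp.IsEffCartierIdeal D) (hDc : IsCrv D) :
    0 ≤ deg k (ClSub.quotMod D) (InvCl.mk L hL) := by
  haveI := hDc.1
  obtain ⟨s, hs⟩ := NumTriv23.exists_mem_glocus_of_gg hL hgg (SDiv28.CartierPart.gen D)
  have h := deg_nonneg_of_mem_glocus k hL hs (by rw [← support_eq_closure_gen D, hDc.2])
  rw [deg_clM_gen k hD] at h
  rw [deg_quotMod k hD]
  exact h

include k in
/-- A class with a nonzero section meets a class nonnegative on curves nonnegatively. -/
theorem B_nonneg_of_sec (hX : topologicalKrullDim X = ((2 : ℕ) : WithBot ℕ∞))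
    (hreg : ∀ x : X, IsRegularLocalRing (X.presheaf.stalk x)) {L : X.Modules} (hL : PicF.IsInvertible L)
    (hnt : Nontrivial (Coh.HH X L 0)) {h : InvCl X}
    (hh : ∀ (D : X.IdealSheafData) (hD : BlowUp.IsEffCartierIdeal D), IsCrv D → Surf15.B k (clI' D hD) h ≤ 0) :
    0 ≤ Surf15.B k (InvCl.mk L hL) h := by
  haveI := isNoetherian_of_proper (X := X) k
  obtain ⟨s, hs⟩ := CurveRR24.exists_ne_zero_of_nontrivial k hnt
  have hqO : Coh.IsQCoh (Coh.structureModule X) := isQCoh_structureModule
  obtain ⟨Z, hZ, ⟨eZ⟩, -⟩ := SecDiv28.exists_effCartier_of_section hL s fun z hz => by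
    haveI := Props12.free_stalk_of_isFinLocFree (Coh.structureModule X)
      (Coherent.isFinLocFree_of_invertible isInvertible_structureModule) z
    rw [SDiv28.eq_genericPoint_of_mem_ass_of_noZeroSMulDivisors _
      ⟨fun {c m} hcm => smul_eq_zero.1 hcm⟩ hz]
    exact CurveRR24.genericPoint_mem_glocus hL hs
  have hZL : clI' Z hZ * InvCl.mk L hL = 1 := by
    rw [clI', InvCl.mk_mul]; exact InvCl.mk_eq _ _ eZ
  have h1 := B_nonpos_of_crv k hX hreg hh hZ
  rw [B_inv_left k hX.le hZL]
  omega

section Pull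

variable (hX2 : topologicalKrullDim X = 2) {B : Scheme.{u}} [B.Over (Spec (CommRingCat.of k))]
  (hB : Curve.IsSmoothProperCurve k B (B ↘ Spec (CommRingCat.of k)))
  (π : X ⟶ B) (hπ : π ≫ (B ↘ Spec (CommRingCat.of k)) = X ↘ Spec (CommRingCat.of k))
  (hsurj : Function.Surjective π.base)
  (hfib : ∀ b : B, IsClosed ({b} : Set B) → Nonempty (π.fiber b ≅ CohB1.ProjSpace 1 k))

include hX2 hB hπ hsurj hfib in
/-- A ruled surface does not change the cohomology of invertible modules of the base. -/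
theorem nonempty_HH_pull {M : B.Modules} (hM : PicF.IsInvertible M) (i : ℕ) :
    Nonempty (Coh.HH X ((Scheme.Modules.pullback π).obj M) i ≃ₗ[k] Coh.HH B M i) := by
  obtain ⟨_, _, _, -, -, -, -⟩ := EssDimConic.ruled_facts k hX2 hB π hπ hsurj hfib
  haveI : IsProper (B ↘ Spec (CommRingCat.of k)) := hB.1
  haveI : IsProper (π ≫ B ↘ Spec (CommRingCat.of k)) := by rw [hπ]; infer_instance
  haveI : IsProper π := IsProper.of_comp π (B ↘ Spec (CommRingCat.of k))
  haveI : IsLocallyNoetherian B := LocallyOfFiniteType.isLocallyNoetherian (B ↘ Spec (CommRingCat.of k))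
  haveI := isNoetherian_of_proper (X := X) k
  haveI : HasInjectiveResolutions X.Modules := Coherent.hasInjectiveResolutions_modules _
  have hd : ∀ (y : B) (hy : IsClosed ({y} : Set B)),
      FGA.intNum k X 2 ![(Scheme.Modules.pullback π).obj M,
          ClSub.idealMod ((Scheme.IdealSheafData.vanishingIdeal ⟨{y}, hy⟩).comap π)] (Coh.structureModule X) ≤ 0 :=
    fun y hy => by
      rw [← B_phi k hX2 hB π hπ hsurj (PicLoc.isInvertible_pullback π hM) y hy, B_comm k]
      exact le_of_eq (B_pull_eq_zero k hX2.le π hM _ (fib_facts k hX2 hB π hπ hsurj hfib y hy).2.1.le)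
  obtain ⟨-, hpush⟩ := EssDimConic.push_of_deg k hX2 hB π hπ hsurj hfib (PicLoc.isInvertible_pullback π hM) hd
  haveI := Clifford24.isIso_unitToPush π (Clifford24.bijective_algebraMap_smooth_fibre π)
  have hMF : FlatMod.IsFinLocFree M := fun x =>
    let ⟨U, hx, e⟩ := PicLib.isFinLocFreeOfRank_one hM x; ⟨U, 1, hx, e⟩
  let e₁ : M ≅ CohB1.tensorMod M ((Coh.push π).obj (Coh.structureModule X)) :=
    (unitTensorIso M).symm ≪≫ AmpleLib.tensorComm _ _ ≪≫
      AmpleLib.tensorIso (Iso.refl M) (asIso (ClSub.unitToPush π))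
  let e : M ≅ (Coh.push π).obj ((Scheme.Modules.pullback π).obj M) :=
    e₁ ≪≫ (projIso (f := π) hMF).app (Coh.structureModule X) ≪≫
      (Scheme.Modules.pushforward π).mapIso (AmpleLib.tensorComm _ _ ≪≫ unitTensorIso _)
  obtain ⟨q⟩ := hpush i
  exact ⟨q.trans (HHCongr k e i).symm⟩

end Pull

section Hirz

variable (hX2 : topologicalKrullDim X = 2) [Smooth (X ↘ Spec (CommRingCat.of k))]
  (π : X ⟶ CohB1.ProjSpace 1 k) (hπ : π ≫ CohB1.ProjSpace.toSpec 1 k = X ↘ Spec (CommRingCat.of k))
  (hsurj : Function.Surjective π)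
  (hfib : ∀ y : CohB1.ProjSpace 1 k, IsClosed ({y} : Set (CohB1.ProjSpace 1 k)) →
    Nonempty (π.fiber y ≅ CohB1.ProjSpace 1 k))

/-- The pull back of `O(m)`. -/
noncomputable abbrev tw (m : ℤ) : X.Modules := (Scheme.Modules.pullback π).obj (Twist.twistProjSpace 1 k m)

omit [IsIntegral X] [IsProper (X ↘ Spec (CommRingCat.of k))] [IsAlgClosed k] [Smooth (X ↘ Spec (CommRingCat.of k))] in
theorem inv_tw (m : ℤ) : PicF.IsInvertible (tw k π m) :=
  PicLoc.isInvertible_pullback π (SplitP1.inv_twist k m)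

/-- The class of the pull back of `O(m)`. -/
noncomputable abbrev ptw (m : ℤ) : InvCl X := InvCl.mk (tw k π m) (inv_tw k π m)

omit [IsIntegral X] [IsProper (X ↘ Spec (CommRingCat.of k))] [IsAlgClosed k] [Smooth (X ↘ Spec (CommRingCat.of k))] in
theorem ptw_zero : ptw k π 0 = 1 := by
  obtain ⟨e⟩ := SplitP1.nonempty_twist_zero k
  exact InvCl.mk_eq _ _ ((Scheme.Modules.pullback π).mapIso e ≪≫ PicLoc.pullbackStructureIso π)

omit [IsIntegral X] [IsProper (X ↘ Spec (CommRingCat.of k))] [IsAlgClosed k] [Smooth (X ↘ Spec (CommRingCat.of k))] in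
theorem ptw_add (a b : ℤ) : ptw k π (a + b) = ptw k π a * ptw k π b := by
  obtain ⟨e⟩ := SplitP1.nonempty_twist_add k (a := a) (b := b) rfl
  obtain ⟨e'⟩ := exists_pullTensorIso π (SplitP1.inv_twist k a) (SplitP1.inv_twist k b)
  refine Eq.trans ?_ (InvCl.mk_mul (inv_tw k π a) (inv_tw k π b)).symm
  exact InvCl.mk_eq _ _ ((Scheme.Modules.pullback π).mapIso e.symm ≪≫ e')

include hX2 in
omit [Smooth (X ↘ Spec (CommRingCat.of k))] [IsAlgClosed k] [IsIntegral X] in
theorem B_ptw (m : ℤ) (c : InvCl X) : Surf15.B k c (ptw k π m) = m * Surf15.B k c (ptw k π 1) := by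
  have hX : topologicalKrullDim X ≤ ((2 : ℕ) : WithBot ℕ∞) := hX2.le
  induction m using Int.induction_on with
  | zero => rw [ptw_zero, B_one_right k hX, zero_mul]
  | succ i ih => rw [ptw_add, B_mul_right k hX, ih]; ring
  | pred i ih =>
    have h := B_mul_right k hX c (ptw k π (-(i : ℤ) - 1)) (ptw k π 1)
    rw [← ptw_add, sub_add_cancel, ih] at h
    linarith

include hX2 hπ hsurj hfib

theorem euler_tw (m : ℤ) : Curv2.euler k X (tw k π m) = m + 1 ∧
    (∀ i, Module.finrank k (Coh.HH X (tw k π m) i) =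
      Module.finrank k (Coh.HH (CohB1.ProjSpace 1 k) (Twist.twistProjSpace 1 k m) i)) := by
  have hB : Curve.IsSmoothProperCurve k (CohB1.ProjSpace 1 k) ((CohB1.ProjSpace 1 k) ↘ Spec (CommRingCat.of k)) :=
    ⟨Coherent.isProper_projSpace_toSpec 1 k, Dual22Lib.ProjSmooth.smooth_toSpec 1 k,
      CurveLib.isIntegral_projSpace k 1, DimLib.PN.topologicalKrullDim_projSpace 1 k⟩
  have h : ∀ i, Module.finrank k (Coh.HH X (tw k π m) i) =
      Module.finrank k (Coh.HH (CohB1.ProjSpace 1 k) (Twist.twistProjSpace 1 k m) i) := fun i =>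
    (nonempty_HH_pull k hX2 hB π hπ hsurj hfib (SplitP1.inv_twist k m) i).some.finrank_eq
  exact ⟨(finsum_congr fun q => by rw [h q]).trans (TFPush7.Ribbon.euler_P1 k m), h⟩

theorem B_ptw_ptw : Surf15.B k (ptw k π 1) (ptw k π 1) = 0 := by
  have hX : topologicalKrullDim X ≤ ((2 : ℕ) : WithBot ℕ∞) := hX2.le
  have h : ∀ m : ℤ, chiCl k (Coh.structureModule X) (ptw k π m) = m + 1 := fun m =>
    (euler_eq_chiCl k hX (inv_tw k π m)).symm.trans (euler_tw k hX2 π hπ hsurj hfib m).1
  rw [Surf15.B, ← ptw_add, ← ptw_zero k π, h, h, h]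
  norm_num

omit hX2 hπ hsurj hfib [Smooth (X ↘ Spec (CommRingCat.of k))] in
theorem gg_tw (m : ℤ) (hm : 0 ≤ m) : Curv2.IsGloballyGenerated (tw k π m) :=
  Desc19b.isGloballyGenerated_pullback π (TFPush7.Ribbon.gg_P1 k m hm)

variable (σ : X.IdealSheafData) (hσi : IsIntegral σ.subscheme)
  (hσd : topologicalKrullDim (σ.support : Set X) = 1)
  (hσf : Curv2.euler k X (CohB1.tensorMod (ClSub.quotMod σ) (tw k π 1)) - Curv2.euler k X (ClSub.quotMod σ) = 1)
  (n : ℕ) (hσσ : FGA.intNum k X 2 ![(ClSub.idealMod σ), (ClSub.idealMod σ)] (Coh.structureModule X) = -(n : ℤ))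
  (N : X.Modules) (hN : ClSub.IsInverseOf N (ClSub.idealMod σ))

include hσi hσd hσf hσσ hN

theorem hirzebruch (a : ℕ) (b : ℤ) :
    ((∀ C : X.IdealSheafData, IsIntegral C.subscheme → topologicalKrullDim (C.support : Set X) = 1 →
        0 ≤ Curv2.euler k X (CohB1.tensorMod (ClSub.quotMod C)
          (CohB1.tensorMod (CohB1.tensorPow N a) (tw k π b))) -
          Curv2.euler k X (ClSub.quotMod C)) ↔ (n : ℤ) * a ≤ b) ∧
      (Curv2.IsGloballyGenerated (CohB1.tensorMod (CohB1.tensorPow N a) (tw k π b)) ↔ (n : ℤ) * a ≤ b) ∧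
      (Nontrivial (Coh.HH X (CohB1.tensorMod (CohB1.tensorPow N a) (tw k π b)) 0) ↔ 0 ≤ b) := by
  haveI := isNoetherian_of_proper (X := X) k
  haveI := isSeparated_of_proper (X := X) k
  haveI := hσi
  have hX : topologicalKrullDim X = ((2 : ℕ) : WithBot ℕ∞) := hX2
  have hreg : ∀ x : X, IsRegularLocalRing (X.presheaf.stalk x) := fun x =>
    VarietyLib.isRegularLocalRing_stalk_of_smooth k X (X ↘ Spec (CommRingCat.of k)) x
  have hσc : IsCrv σ := ⟨hσi, hσd⟩
  have hσe := hσc.isEffCartier k hX hreg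
  have hI := FlatMor12.IdealModGen.isInvertible_idealMod σ hσe
  obtain ⟨eN⟩ := hN
  have hNi : PicF.IsInvertible N :=
    PicM.isInvertible_of_tensor hI (glocus_isInvertible_of_iso (AmpleLib.tensorComm _ _ ≪≫ eN).symm isInvertible_structureModule)
  let sc := clI' σ hσe
  let nc := InvCl.mk N hNi
  have hns : nc * sc = 1 := by
    show InvCl.mk N hNi * InvCl.mk _ hI = 1
    rw [InvCl.mk_mul]; exact InvCl.mk_eq _ _ eN
  have hss : Surf15.B k sc sc = -(n : ℤ) := (intNum_eq_B k hX.le hI hI).symm.trans hσσ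
  have hsp : Surf15.B k sc (ptw k π 1) = -1 := by
    have h := deg_quotMod k hσe (ptw k π 1)
    rw [deg_mk, hσf] at h
    change (1 : ℤ) = -Surf15.B k sc (ptw k π 1) at h
    omega
  have hsn : Surf15.B k sc nc = (n : ℤ) := by
    rw [B_inv_right k hX.le (show sc * nc = 1 by rw [mul_comm, hns]), hss]; ring
  let cl := fun (a : ℕ) (b : ℤ) => CohB1.tensorMod (CohB1.tensorPow N a) (tw k π b)
  have hcl : ∀ a b, PicF.IsInvertible (cl a b) := fun a b =>
    isInvertible_tensorMod (isInvertible_tensorPow hNi a) (inv_tw k π b)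
  have hmk : ∀ a b, InvCl.mk (cl a b) (hcl a b) = nc ^ a * ptw k π b := fun a b => by
    show _ = InvCl.mk N hNi ^ a * InvCl.mk _ (inv_tw k π b)
    rw [← InvCl.mk_tensorPow hNi a, InvCl.mk_mul]
  have hBcl : ∀ a b c, Surf15.B k c (InvCl.mk (cl a b) (hcl a b)) =
      a * Surf15.B k c nc + b * Surf15.B k c (ptw k π 1) := fun a b c => by
    rw [hmk, B_mul_right k hX.le, B_pow_right k hX.le, B_ptw k hX2 π b c]
  -- the curve `σ` is a line
  have hσ1 : Curv2.euler k X (ClSub.quotMod σ) = 1 := by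
    let i := σ.subschemeι
    letI : σ.subscheme.Over (Spec (CommRingCat.of k)) := ⟨i ≫ (X ↘ Spec (CommRingCat.of k))⟩
    haveI : IsProper (σ.subscheme ↘ Spec (CommRingCat.of k)) :=
      inferInstanceAs (IsProper (i ≫ (X ↘ Spec (CommRingCat.of k))))
    haveI := isNoetherian_of_proper (X := σ.subscheme) k
    haveI := isSeparated_of_proper (X := σ.subscheme) k
    have hY : topologicalKrullDim σ.subscheme = 1 := by
      rw [i.isClosedEmbedding.isEmbedding.toHomeomorph.isHomeomorph.topologicalKrullDim_eq]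
      exact (congrArg (fun S : Set X => topologicalKrullDim S) σ.range_subschemeι).trans hσd
    let L' := (Scheme.Modules.pullback i).obj (tw k π 1)
    have hL' : PicF.IsInvertible L' := PicLoc.isInvertible_pullback i (inv_tw k π 1)
    haveI : Coh.IsQCoh L' := (CurveRR24.isCoh_of_isInvertible k hL').1
    haveI : Coh.IsQCoh (Coh.structureModule σ.subscheme) := (isCoh_structureModule _).1
    obtain ⟨e⟩ := exists_restrict_iso σ (inv_tw k π 1)
    have hdeg : Curv2.deg k σ.subscheme L' 1 = 1 := by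
      simp only [Curv2.deg, Nat.cast_one, one_mul]
      rw [AbCubeLib.euler_push k i rfl, AbCubeLib.euler_push k i rfl, ← euler_congr k X e]
      exact hσf
    have hzero : Module.finrank k (Coh.HH X (CohB1.tensorMod (ClSub.idealMod σ) (tw k π 1)) 0) = 0 := by
      have hK := isInvertible_tensorMod hI (inv_tw k π 1)
      rcases subsingleton_or_nontrivial (Coh.HH X (CohB1.tensorMod (ClSub.idealMod σ) (tw k π 1)) 0) with h | h
      · exact Module.finrank_zero_of_subsingleton
      exfalso
      have h' := B_nonneg_of_sec k hX hreg hK h (h := ptw k π 1) fun D hD hDc => by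
        have := deg_nonneg_of_gg k (inv_tw k π 1) (gg_tw k π 1 one_pos.le) hD hDc
        rw [deg_quotMod k hD] at this
        change 0 ≤ -Surf15.B k (clI' D hD) (ptw k π 1) at this
        omega
      rw [← InvCl.mk_mul hI (inv_tw k π 1), B_mul_left k hX.le, B_ptw_ptw k hX2 π hπ hsurj hfib] at h'
      change 0 ≤ Surf15.B k sc (ptw k π 1) + 0 at h'
      omega
    have h2 : 2 ≤ Module.finrank k (Coh.HH σ.subscheme L' 0) := by
      have hses := twistSeq_shortExact (inv_tw k π 1) (shortExact_ideal σ)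
      have hle := (h0_le k hses (isCoh_twist (inv_tw k π 1) (isCoh_idealMod' σ))
        (isCoh_twist (inv_tw k π 1) (isCoh_structureModule X)) (isCoh_twist (inv_tw k π 1) (isCoh_quotMod σ))).2
      change Module.finrank k (Coh.HH X (CohB1.tensorMod (Coh.structureModule X) (tw k π 1)) 0) ≤
        Module.finrank k (Coh.HH X (CohB1.tensorMod (ClSub.idealMod σ) (tw k π 1)) 0) +
          Module.finrank k (Coh.HH X (CohB1.tensorMod (ClSub.quotMod σ) (tw k π 1)) 0) at hle
      rw [finrank_HH_congr k (unitTensorIso _) 0, (euler_tw k hX2 π hπ hsurj hfib 1).2 0, SplitP1.h0_twist,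
        hzero, finrank_HH_congr k e 0, ← (SerreDual.hpush i k rfl L' 0).finrank_eq] at hle
      simpa using hle
    obtain ⟨eσ, heσ⟩ := CurveRR24.exists_iso_projLine k hY hL' hdeg h2
    have hg := CurveRR24.genus_of_iso_projLine k eσ heσ
    obtain ⟨-, hχ, -⟩ := curve_facts k σ hσd (inv_tw k π 1)
    rw [hχ, ← (SerreDual.hpush i k rfl (Coh.structureModule σ.subscheme) 1).finrank_eq]
    rw [Curv2.genus] at hg
    rw [hg]; rfl
  -- generation of the nef classes
  have hgg1 : Curv2.IsGloballyGenerated (cl 1 n) := by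
    let L := cl 1 n
    have hL := hcl 1 n
    have hses := twistSeq_shortExact hL (shortExact_ideal σ)
    have u : CohB1.tensorMod (ClSub.idealMod σ) L ≅ tw k π n := by
      refine Classical.choice ?_
      have h : clI' σ hσe * InvCl.mk L hL = ptw k π n := by
        rw [hmk, pow_one, ← mul_assoc, mul_comm (clI' σ hσe) nc, hns, one_mul]
      rw [clI', InvCl.mk_mul] at h
      exact Quotient.exact h
    have hO : Curv2.IsGloballyGenerated (Coh.structureModule X) := by
      refine globallyGenerated_of_glocus isInvertible_structureModule fun x => ⟨oneSec ⊤, ?_⟩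
      rw [glocus_oneSec]; trivial
    have hQ : Curv2.IsGloballyGenerated (ClSub.quotMod σ) := by
      obtain ⟨J, p, hp⟩ := hO
      haveI := hp
      haveI := CurveRR24.epi_toSubscheme σ
      exact ⟨J, p ≫ ClSub.toSubscheme σ, @epi_comp _ _ _ _ _ p hp (ClSub.toSubscheme σ) (CurveRR24.epi_toSubscheme σ)⟩
    have hσL : Surf15.B k sc (InvCl.mk L hL) = 0 := by
      rw [hBcl, hsn, hsp]; push_cast; ring
    obtain ⟨-, -, -, h4, -⟩ := curve_facts k σ hσd hL
    have hd0 : deg k (ClSub.quotMod σ) (InvCl.mk L hL) = 0 := by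
      rw [deg_quotMod k hσe]; change -Surf15.B k sc _ = 0; omega
    have hsupp : CohB1.support (CohB1.tensorMod (ClSub.quotMod σ) L) ⊆ (σ.support : Set X) := by
      rw [EulerLib.support_twist hL]
      exact support_quotMod_subset σ
    have hne : Module.finrank k (Coh.HH X (CohB1.tensorMod (ClSub.quotMod σ) L) 0) ≠ 0 := fun h0 => by
      have hq := deg_mk k (ClSub.quotMod σ) hL
      rw [hd0, hσ1, euler_eq_sum k X _ 1 (fun q hq => subsingleton_HH_of_support σ.support _
        (isCoh_twist hL (isCoh_quotMod σ)).1 hsupp q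
          (lt_of_le_of_lt hσd.le (by exact_mod_cast hq)))] at hq
      have h0' : (Module.finrank k (Coh.HH X (CohB1.tensorMod (ClSub.quotMod σ) (cl 1 n)) 0) : ℤ) = 0 := by
        exact_mod_cast h0
      simp [Finset.sum_range_succ] at hq
      omega
    obtain ⟨eQ⟩ := (h4 hd0.le).2 hne
    haveI : Subsingleton (Coh.HH X (CohB1.tensorMod (ClSub.idealMod σ) L) 1) := by
      refine subsingleton_HH_congr u.symm 1 ?_
      haveI := Coherent.subsingleton_HH_twist (n := 1) (R := k) (d := (n : ℤ)) 1 (by omega) (by omega)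
      have hfr := ((euler_tw k hX2 π hπ hsurj hfib n).2 1).trans Module.finrank_zero_of_subsingleton
      haveI := finite_HH_of_isCoh k (CurveRR24.isCoh_of_isInvertible k (inv_tw k π n)) 1
      exact Module.finrank_zero_iff.1 hfr
    have hgg : Curv2.IsGloballyGenerated (CohB1.tensorMod (Coh.structureModule X) L) :=
      Mod22.GGDual.isGloballyGenerated_of_shortExact hses
        (globallyGenerated_of_iso u.symm (gg_tw k π n (by omega))) (globallyGenerated_of_iso eQ.symm hQ)
        (Mod22.GGDual.surjective_app_top_of_h1_injective (k := k) hses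
          (@Function.injective_of_subsingleton _ _ ‹_› _))
    exact globallyGenerated_of_iso (unitTensorIso L) hgg
  have hgg : ∀ (a : ℕ) (b : ℤ), (n : ℤ) * a ≤ b → Curv2.IsGloballyGenerated (cl a b) := by
    intro a
    induction a with
    | zero =>
      intro b hb
      exact globallyGenerated_of_iso (unitTensorIso _).symm (gg_tw k π b (by simpa using hb))
    | succ a ih =>
      intro b hb
      have h1 := ih (b - n) (by push_cast at hb ⊢; linarith)
      haveI := isQCoh_of_isInvertible (hcl a (b - n))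
      haveI := isQCoh_of_isInvertible (hcl 1 n)
      refine globallyGenerated_of_iso (Classical.choice ?_) (CurveRR24.gg_tensorMod h1 hgg1)
      have h : InvCl.mk (cl a (b - n)) (hcl a (b - n)) * InvCl.mk (cl 1 n) (hcl 1 n) =
          InvCl.mk (cl (a + 1) b) (hcl (a + 1) b) := by
        rw [hmk, hmk, hmk, show b = (b - n) + n by ring, ptw_add, sub_add_cancel]
        simp only [pow_succ, pow_zero, one_mul]
        ac_rfl
      rw [InvCl.mk_mul] at h
      exact Quotient.exact h
  have hnef : ∀ (a : ℕ) (b : ℤ), Curv2.IsGloballyGenerated (cl a b) → ∀ C : X.IdealSheafData,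
      IsIntegral C.subscheme → topologicalKrullDim (C.support : Set X) = 1 →
        0 ≤ Curv2.euler k X (CohB1.tensorMod (ClSub.quotMod C) (cl a b)) - Curv2.euler k X (ClSub.quotMod C) := by
    intro a b h C hCi hCd
    have hCc : IsCrv C := ⟨hCi, hCd⟩
    rw [← deg_mk k _ (hcl a b)]
    exact deg_nonneg_of_gg k (hcl a b) h (hCc.isEffCartier k hX hreg) hCc
  have hnec : (∀ C : X.IdealSheafData, IsIntegral C.subscheme → topologicalKrullDim (C.support : Set X) = 1 →
        0 ≤ Curv2.euler k X (CohB1.tensorMod (ClSub.quotMod C) (cl a b)) - Curv2.euler k X (ClSub.quotMod C)) →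
      (n : ℤ) * a ≤ b := fun h => by
    have h' := h σ hσi hσd
    rw [← deg_mk k _ (hcl a b), deg_quotMod k hσe] at h'
    change 0 ≤ -Surf15.B k sc _ at h'
    rw [hBcl, hsn, hsp] at h'
    linarith
  refine ⟨⟨hnec, fun h => hnef a b (hgg a b h)⟩, ⟨fun h => hnec (hnef a b h), hgg a b⟩, fun h => ?_, fun hb => ?_⟩
  · have h' := B_nonneg_of_sec k hX hreg (hcl a b) h (h := InvCl.mk (cl 1 n) (hcl 1 n)) fun D hD hDc => by
      have := deg_nonneg_of_gg k (hcl 1 n) hgg1 hD hDc
      rw [deg_quotMod k hD] at this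
      omega
    rw [hBcl, B_comm k, hmk, B_mul_right k hX.le, B_pow_right k hX.le, B_ptw k hX2 π b nc] at h'
    have hnn : Surf15.B k nc nc = -(n : ℤ) := by rw [B_inv_inv k hX.le (show sc * nc = 1 by rw [mul_comm, hns]) (show sc * nc = 1 by rw [mul_comm, hns]), hss]
    have hnp : Surf15.B k nc (ptw k π 1) = 1 := by
      rw [B_inv_left k hX.le (show sc * nc = 1 by rw [mul_comm, hns]), hsp]; ring
    rw [B_mul_left k hX.le, B_pow_left k hX.le, B_comm k (ptw k π b) (ptw k π 1), B_ptw k hX2 π b,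
      B_ptw_ptw k hX2 π hπ hsurj hfib, hnn, hnp] at h'
    push_cast at h'
    linarith
  · obtain ⟨s, hs⟩ := AbCubeLib.exists_section_of_effCartier σ hσe hNi ⟨eN⟩
    have hη : genericPoint X ∈ glocus N s := hs.ge fun h => by
      have hηc : closure ({genericPoint X} : Set X) ⊆ (σ.support : Set X) :=
        σ.support.isClosed.closure_subset_iff.2 (Set.singleton_subset_iff.2 h)
      rw [genericPoint_closure] at hηc
      have h21 := (IsHomeomorph.topologicalKrullDim_eq _ (Homeomorph.Set.univ X).isHomeomorph).ge.trans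
        ((dim_mono hηc).trans hσd.le)
      rw [hX2] at h21
      exact absurd h21 (by norm_num)
    obtain ⟨t, ht⟩ := NumTriv23.exists_mem_glocus_of_gg (inv_tw k π b) (gg_tw k π b hb) (genericPoint X)
    have hpow : ∀ a : ℕ, ∃ u : Γ(CohB1.tensorPow N a, ⊤), genericPoint X ∈ glocus _ u := fun a => by
      induction a with
      | zero => exact ⟨oneSec ⊤, by show genericPoint X ∈ glocus (Coh.structureModule X) _; rw [glocus_oneSec]; trivial⟩
      | succ a ih =>
        obtain ⟨u, hu⟩ := ih
        refine ⟨tmul u s, ?_⟩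
        show genericPoint X ∈ glocus (CohB1.tensorMod _ N) _
        rw [glocus_tmul (isInvertible_tensorPow hNi a) hNi]
        exact ⟨hu, hη⟩
    obtain ⟨u, hu⟩ := hpow a
    refine Surf15.nontrivial_h0 k (s := tmul u t) (VarietyLib.ne_zero_of_mem_glocus (x := genericPoint X) ?_)
    rw [glocus_tmul (isInvertible_tensorPow hNi a) (inv_tw k π b)]
    exact ⟨hu, ht⟩

end Hirz

end Groth.Agent.PBSurf14
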